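import Cfsg.Agent.Lib.U6ThreeSmall.Quot
import Cfsg.Agent.S3343

/-!
# The centraliser of `a₁ a₂` normalises the plane
-/

set_option autoImplicit false
set_option linter.unusedSectionVars false
set_option linter.style.haveILetI false
set_option maxHeartbeats 800000

namespace Cfsg.Lib.U6ThreeSmall

open Subgroup Cfsg.Lib.U6Three
open scoped commutatorElement

/-- The product of three disjoint 3-cycles. -/
abbrev s9 : Equiv.Perm (Fin 9) :=
  Equiv.swap (0 : Fin 9) 1 * Equiv.swap 1 2 * Equiv.swap 3 4 * Equiv.swap 4 5 * Equiv.swap 6 7 * Equiv.swap 7 8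

theorem s9_facts : s9 ^ 3 = 1 ∧ s9 ≠ 1 ∧ s9.support.card = 9 := by decide +kernel

theorem count_162 : ∀ n : ℕ, n ≤ 2 → (9 - (n + 1) * 3).factorial * 3 ^ (n + 1) * (n + 1).factorial = 162 → n = 2 := by
  decide +kernel

/-- Two conjugators. -/
abbrev k9 : Equiv.Perm (Fin 9) := Equiv.swap 1 3 * Equiv.swap 2 6 * Equiv.swap 5 7

/-- Two conjugators. -/
abbrev l9 : Equiv.Perm (Fin 9) := Equiv.swap 1 2

theorem s9_pair : (k9 * s9 * k9⁻¹) * s9 = s9 * (k9 * s9 * k9⁻¹) ∧ (l9 * s9 * l9⁻¹) * s9 = s9 * (l9 * s9 * l9⁻¹) ∧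
    (k9 * s9 * k9⁻¹) * (l9 * s9 * l9⁻¹) ≠ (l9 * s9 * l9⁻¹) * (k9 * s9 * k9⁻¹) := by decide +kernel

theorem s9_cycleType : s9.cycleType = Multiset.replicate 3 3 := by
  have ho : orderOf s9 = 3 := orderOf_eq_prime s9_facts.1 s9_facts.2.1
  obtain ⟨n, hn⟩ := Equiv.Perm.cycleType_prime_order (σ := s9) (by rw [ho]; exact Nat.prime_three)
  rw [ho] at hn
  have h := Equiv.Perm.sum_cycleType s9
  rw [hn, s9_facts.2.2, Multiset.sum_replicate, smul_eq_mul] at h
  rw [hn, show n + 1 = 3 by omega]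

/-- Transporting a pair of noncommuting conjugates. -/
theorem pair_conj {H : Type*} [Group H] (h k l s : H) (e1 : k * s * k⁻¹ * s = s * (k * s * k⁻¹))
    (e2 : l * s * l⁻¹ * s = s * (l * s * l⁻¹))
    (e3 : k * s * k⁻¹ * (l * s * l⁻¹) ≠ l * s * l⁻¹ * (k * s * k⁻¹)) :
    ∃ k' l' : H, Commute (k' * (h * s * h⁻¹) * k'⁻¹) (h * s * h⁻¹) ∧ Commute (l' * (h * s * h⁻¹) * l'⁻¹) (h * s * h⁻¹) ∧
      ¬ Commute (k' * (h * s * h⁻¹) * k'⁻¹) (l' * (h * s * h⁻¹) * l'⁻¹) := by
  have e : ∀ m, h * m * h⁻¹ * (h * s * h⁻¹) * (h * m * h⁻¹)⁻¹ = MulAut.conj h (m * s * m⁻¹) := fun m => by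
    rw [MulAut.conj_apply]; group
  refine ⟨h * k * h⁻¹, h * l * h⁻¹, ?_, ?_, ?_⟩
  · rw [e, ← MulAut.conj_apply]; exact Commute.map (e1 : Commute _ _) _
  · rw [e, ← MulAut.conj_apply]; exact Commute.map (e2 : Commute _ _) _
  · rw [e, e]
    exact fun hh => e3 ((MulAut.conj h).injective ((map_mul _ _ _).trans (hh.eq.trans (map_mul _ _ _).symm)))

/-- An element of order three with centraliser of order 162 has two noncommuting conjugates commuting with it. -/
theorem s9_bad {c : Equiv.Perm (Fin 9)} (h3 : c ^ 3 = 1) (h1 : c ≠ 1)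
    (hc : Nat.card (centralizer ({c} : Set (Equiv.Perm (Fin 9)))) = 162) :
    ∃ k l : Equiv.Perm (Fin 9), Commute (k * c * k⁻¹) c ∧ Commute (l * c * l⁻¹) c ∧
      ¬ Commute (k * c * k⁻¹) (l * c * l⁻¹) := by
  have ho : orderOf c = 3 := orderOf_eq_prime h3 h1
  obtain ⟨n, hn⟩ := Equiv.Perm.cycleType_prime_order (σ := c) (by rw [ho]; exact Nat.prime_three)
  rw [ho] at hn
  have hle := Equiv.Perm.sum_cycleType_le c
  rw [hn, Multiset.sum_replicate, smul_eq_mul, Fintype.card_fin] at hle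
  rw [Equiv.Perm.nat_card_centralizer, hn] at hc
  rw [Multiset.sum_replicate, Multiset.prod_replicate, Multiset.toFinset_replicate, if_neg (Nat.succ_ne_zero n),
    Finset.prod_singleton, Multiset.count_replicate_self, Fintype.card_fin, smul_eq_mul] at hc
  obtain rfl : n = 2 := count_162 n (by omega) hc
  obtain ⟨h, rfl⟩ := isConj_iff.1 (Equiv.Perm.isConj_iff_cycleType_eq.2 (s9_cycleType.trans hn.symm))
  obtain ⟨e1, e2, e3⟩ := s9_pair
  exact pair_conj h k9 l9 s9 e1 e2 e3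

theorem centralizer_n_le {G : Type*} [Group G] [Finite G] {D : Cfsg.Lib.U6Three.Data G}
    (T : Cfsg.Lib.U6Three.Setting D) (h3 : T.IsThree)
    (hI : ∃ g : G, Commute g T.B.a1 ∧ g * D.z * g⁻¹ = D.z⁻¹) :
    Subgroup.centralizer ({T.B.a1 * T.B.a2} : Set G) ≤ Subgroup.normalizer (T.J : Set G) := by
  classical
  obtain ⟨hcard, ⟨eC⟩⟩ := exists_iso h3 hI
  set q : Cn T →* Yn T := QuotientGroup.mk' (An T)
  have hker : ∀ g : Cn T, q g = 1 ↔ (g : G) ∈ zpowers (nn T) := fun g =>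
    (QuotientGroup.eq_one_iff g).trans mem_subgroupOf
  have hJCn : T.J ≤ Cn T := fun w hw => (mem_Cn T).2 (J_comm T hw (n_mem_J T))
  set Jn := (T.J.subgroupOf (Cn T)).map q with hJn
  have hJC : Jn ≤ centralizer ({zn T} : Set (Yn T)) := by
    rintro _ ⟨g, hg, rfl⟩
    exact mem_centralizer_singleton_iff.2 ((commute_zn T).2 (J_le_Stab T (mem_subgroupOf.1 hg)).1)
  have hJcomm : IsMulCommutative Jn := ⟨⟨fun a b => by
    obtain ⟨u, hu, eu⟩ := a.2
    obtain ⟨v, hv, ev⟩ := b.2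
    refine Subtype.ext ?_
    rw [coe_mul, coe_mul, ← eu, ← ev, ← map_mul, ← map_mul]
    exact congrArg _ (Subtype.ext (J_comm T (mem_subgroupOf.1 hu) (mem_subgroupOf.1 hv)).eq)⟩⟩
  have hJexp : ∀ a ∈ Jn, a ^ 3 = 1 := by
    rintro _ ⟨g, hg, rfl⟩
    obtain ⟨v, hv⟩ := T.exists_cv (mem_subgroupOf.1 hg)
    rw [← map_pow, show g ^ 3 = 1 from Subtype.ext (by
      rw [coe_pow, ← hv, pow_three, ← T.cv_add, ← T.cv_add, three_v v, T.cv_zero, coe_one]), map_one]
  have hnc : Nat.card ((zpowers (nn T)).subgroupOf (Cn T)) = 3 := by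
    rw [Nat.card_congr (subgroupOfEquivOfLe (zpowers_le.2 ((mem_Cn T).2 (Commute.refl _)))).toEquiv,
      Nat.card_zpowers, orderOf_n]
  have hJcard : Nat.card Jn = 27 := by
    have h := Cfsg.Lib.U6Three.card_map_mul q (T.J.subgroupOf (Cn T))
    rw [inf_eq_right.2 fun g hg => mem_subgroupOf.2 (zpowers_le.2 (n_mem_J T) ((hker g).1 hg)),
      QuotientGroup.ker_mk', hnc, Nat.card_congr (subgroupOfEquivOfLe hJCn).toEquiv,
      T.h.card_J T.B T.hx, ← hJn] at h
    omega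
  have hsig : ∀ K : Subgroup (Yn T), (Nat.card K).Coprime 3 →
      (∀ j ∈ Jn, K.map (MulAut.conj j).toMonoidHom = K) → K = ⊥ := by
    intro K hK hn
    obtain ⟨K', hK'⟩ : ∃ K', K' = (K.comap q).map (Cn T).subtype := ⟨_, rfl⟩
    have haK : nn T ∈ K' := hK' ▸ ⟨⟨nn T, (mem_Cn T).2 (Commute.refl _)⟩, mem_comap.2 (by
      rw [(hker ⟨nn T, (mem_Cn T).2 (Commute.refl _)⟩).2 (mem_zpowers _)]; exact one_mem K), rfl⟩
    have hcard' : Nat.card K' = orderOf (nn T) * Nat.card K := by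
      rw [hK', card_map_of_injective (Cn T).subtype_injective]
      have h := Cfsg.Lib.U6Three.card_map_mul q (K.comap q)
      rw [map_comap_eq_self_of_surjective (QuotientGroup.mk'_surjective _),
        inf_eq_right.2 fun g hg => mem_comap.2 (by rw [MonoidHom.mem_ker.1 hg]; exact one_mem K),
        QuotientGroup.ker_mk', hnc] at h
      rw [orderOf_n, ← h, mul_comm]
    obtain ⟨U, hUK, hUc, hUm, -⟩ := exists_coprime_part haK
      (fun g hg => by rw [hK'] at hg; exact (mem_Cn T).1 (map_subtype_le _ hg)) hcard'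
      (by rw [orderOf_n]; exact hK.symm)
    have hU : U = ⊥ := by
      refine T.signalizer (hUc ▸ hK) fun j hj => ?_
      have hle : U.map (MulAut.conj j).toMonoidHom ≤ U := by
        rintro _ ⟨u, hu, rfl⟩
        show j * u * j⁻¹ ∈ U
        have hj' := hJCn hj
        refine hUm _ ?_ ?_
        · have hu' := hUK hu
          rw [hK'] at hu' ⊢
          obtain ⟨u', hu'', rfl⟩ := hu'
          refine ⟨⟨j, hj'⟩ * u' * ⟨j, hj'⟩⁻¹, mem_comap.2 ?_, rfl⟩
          have := hn (q ⟨j, hj'⟩) ⟨⟨j, hj'⟩, mem_subgroupOf.2 hj, rfl⟩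
          rw [map_mul, map_mul, map_inv]
          exact this.le ⟨q u', mem_comap.1 hu'', rfl⟩
        · rw [conj_pow, show u ^ Nat.card K = 1 from
            hUc ▸ congrArg Subtype.val (pow_card_eq_one' (x := (⟨u, hu⟩ : U)))]
          group
      have he : U.map (MulAut.conj j).toMonoidHom = U := Subgroup.eq_of_le_of_card_ge hle
        (le_of_eq (Subgroup.card_map_of_injective (MulAut.conj j).injective).symm)
      rw [mem_normalizer_iff]
      intro u
      refine ⟨fun hu => hle ⟨u, hu, rfl⟩, fun hu => ?_⟩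
      obtain ⟨v, hv, e⟩ := he.ge hu
      exact mul_left_cancel (mul_right_cancel e) ▸ hv
    exact Subgroup.card_eq_one.1 (hUc ▸ hU ▸ Subgroup.card_bot)
  rcases Cfsg.Agent.S3343.result (zn T) (zn_order T) eC Jn hJC hJcomm hJexp hJcard hsig with hN | he
  · intro g hg
    refine T.weakly_closed fun w hw => J_le_Stab T ?_
    obtain ⟨w', hw', ew⟩ := hN.conj_mem (q ⟨w, hJCn hw⟩) ⟨_, mem_subgroupOf.2 hw, rfl⟩ (q ⟨g, hg⟩)
    rw [← map_inv, ← map_mul, ← map_mul] at ew
    have h2 := (mk_eq_iff T).1 ew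
    have h3' := T.J.mul_mem (mem_subgroupOf.1 hw') (zpowers_le.2 (n_mem_J T) h2)
    rwa [mul_inv_cancel_left] at h3'
  · exfalso
    obtain ⟨e⟩ := he
    have hc3 : (e (zn T)) ^ 3 = 1 := by rw [← map_pow, ← zn_order T, pow_orderOf_eq_one, map_one]
    have hc1 : e (zn T) ≠ 1 := fun h => by
      have := zn_order T
      rw [e.map_eq_one_iff.1 h, orderOf_one] at this
      omega
    obtain ⟨k, l, hk, hl, hkl⟩ := s9_bad hc3 hc1 (hcard ▸ (Nat.card_congr
      (e.toEquiv.subtypeEquiv fun y => by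
        rw [mem_centralizer_singleton_iff, mem_centralizer_singleton_iff]
        show _ ↔ e y * e (zn T) = e (zn T) * e y
        rw [← map_mul, ← map_mul, e.injective.eq_iff])).symm)
    have key : ∀ k : Equiv.Perm (Fin 9), Commute (k * e (zn T) * k⁻¹) (e (zn T)) →
        ∃ y : Cn T, (y : G) ∈ T.J ∧ e (q y) = k * e (zn T) * k⁻¹ := by
      intro k hk
      obtain ⟨g, hg⟩ := QuotientGroup.mk'_surjective (An T) (e.symm k)
      have ey : e (q (g * ⟨D.z, z_mem_Cn T⟩ * g⁻¹)) = k * e (zn T) * k⁻¹ := by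
        rw [map_mul, map_mul, map_inv, map_mul, map_mul, map_inv, show e (q g) = k by
          rw [show q g = e.symm k from hg, MulEquiv.apply_symm_apply]]
        rfl
      set y : Cn T := g * ⟨D.z, z_mem_Cn T⟩ * g⁻¹
      refine ⟨y, ?_, ey⟩
      rw [← ey] at hk
      have hyz : Commute (y : G) D.z := (commute_zn T).1
        (e.injective (by rw [map_mul, map_mul]; exact hk.eq))
      have hy3 : (y : G) ^ 3 = 1 := by
        show ((g : G) * D.z * (g : G)⁻¹) ^ 3 = 1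
        rw [conj_pow, D.z_cube]; group
      exact T.h.pt_mem_J T.B T.hx
        (stab_of_HN T.B ((mem_Cn T).1 y.2) (three_HN T hyz ⟨1, by rw [pow_one]; exact hy3⟩))
        ((Pt.self _).conj (g : G))
    obtain ⟨y, hy, ey⟩ := key k hk
    obtain ⟨y', hy', ey'⟩ := key l hl
    refine hkl ?_
    rw [← ey, ← ey']
    exact ((show Commute y y' from Subtype.ext (J_comm T hy hy').eq).map q).map e

end Cfsg.Lib.U6ThreeSmall
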