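import Cfsg.Agent.Lib.U6ThreeSmall.Swap
import Cfsg.Agent.S3376

/-!
# The centraliser of the image of `z` in `C(a₁ a₂)` modulo `a₁ a₂`
-/

set_option autoImplicit false
set_option linter.unusedSectionVars false
set_option linter.style.haveILetI false
set_option maxHeartbeats 800000

namespace Cfsg.Lib.U6ThreeSmall

open Subgroup Cfsg.Lib.U6Three
open scoped commutatorElement

theorem fixed_translation : ∀ (v : V4) (c : ZMod 3), app (uM 1 2) v = (0, c, c, 0) + v →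
    v.2.2.2 = 0 ∧ v.2.2.1 = v.2.1 := by decide +kernel

theorem no_coord : ∀ i : ZMod 3, i + 1 = 0 → 1 - i = 0 → False := by decide

theorem three_v : ∀ v : V4, v + (v + v) = 0 := by decide +kernel

variable {G : Type*} [Group G] [Finite G] {D : Data G} (T : Setting D)

/-- The centraliser of `a₁ a₂`. -/
abbrev Cn : Subgroup G := centralizer ({nn T} : Set G)

/-- The cyclic subgroup inside it. -/
abbrev An : Subgroup (Cn T) := (zpowers (nn T)).subgroupOf (Cn T)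

theorem mem_Cn {g : G} : g ∈ Cn T ↔ Commute g (nn T) := mem_centralizer_singleton_iff

instance An_normal : (An T).Normal := ⟨fun w hw g => by
  obtain ⟨k, hk⟩ := mem_zpowers_iff.1 (mem_subgroupOf.1 hw)
  have : Commute (g : G) (w : G) := hk ▸ ((mem_Cn T).1 g.2).zpow_right k
  rw [mem_subgroupOf, coe_mul, coe_mul, coe_inv, this.eq, mul_inv_cancel_right]
  exact mem_subgroupOf.1 hw⟩

/-- The quotient. -/
abbrev Yn : Type _ := Cn T ⧸ An T

theorem z_mem_Cn : D.z ∈ Cn T := (mem_Cn T).2 (D.comm_z _ (n_mem_Q T)).symm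

/-- The image of the centre. -/
def zn : Yn T := ((⟨D.z, z_mem_Cn T⟩ : Cn T) : Yn T)

theorem mk_eq_iff {g h : Cn T} : (g : Yn T) = h ↔ (g : G)⁻¹ * h ∈ zpowers (nn T) :=
  QuotientGroup.eq.trans mem_subgroupOf

theorem cv_zp_n (i : ZMod 3) : T.cv (0, i, i, 0) = zp (nn T) i := by
  rw [zp, show (nn T) ^ i.val = T.B.a1 ^ i.val * T.B.a2 ^ i.val from T.B.comm_a.mul_pow _]
  simp [Setting.cv, Basis.el, zp_zero, zp]

theorem mem_zp_n {b : G} (hb : b ∈ zpowers (nn T)) : ∃ i : ZMod 3, b = zp (nn T) i := by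
  obtain ⟨n, rfl⟩ := mem_powers_iff_mem_zpowers.2 hb
  exact ⟨n, by rw [zp, ZMod.val_natCast]; exact pow_eq_pow_mod n (n_cube T)⟩

theorem eq_one_of_n_Zc {b : G} (hb : b ∈ zpowers (nn T)) (hz : b ∈ D.Zc) : b = 1 := by
  obtain ⟨i, rfl⟩ := mem_zp_n T hb
  by_cases hi : i = 0
  · rw [hi, zp_zero]
  exfalso
  have := zp_mem hz i⁻¹
  rw [zp_zp (n_cube T), mul_inv_cancel₀ hi, zp_one] at this
  exact n_not_Zc T this

/-- Centralising the image of the centre is centralising it. -/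
theorem commute_zn {g : Cn T} : Commute (g : Yn T) (zn T) ↔ Commute (g : G) D.z := by
  constructor
  · intro h
    have h1 : ((g * ⟨D.z, z_mem_Cn T⟩ * g⁻¹ : Cn T) : Yn T) = ((⟨D.z, z_mem_Cn T⟩ : Cn T) : Yn T) := by
      rw [QuotientGroup.mk_mul, QuotientGroup.mk_mul, QuotientGroup.mk_inv]
      exact mul_inv_eq_iff_eq_mul.2 h
    have h2 := (mk_eq_iff T).1 h1
    have hQ : ((g * ⟨D.z, z_mem_Cn T⟩ * g⁻¹ : Cn T) : G)⁻¹ * D.z ∈ D.Q := zpowers_le.2 (n_mem_Q T) h2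
    have hp : (g : G) * D.z * (g : G)⁻¹ ∈ D.Q := by
      have := D.Q.mul_mem D.z_mem (D.Q.inv_mem hQ)
      simpa [mul_assoc] using this
    have hpz : (g : G) * D.z * (g : G)⁻¹ ∈ D.Zc := D.pt_mem_Q ((Pt.self _).conj _) hp
    have := eq_one_of_n_Zc T h2 (by
      simpa [mul_assoc] using D.Zc.mul_mem (D.Zc.inv_mem hpz) (mem_zpowers D.z))
    simp only [coe_mul, coe_inv, inv_mul_eq_one] at this
    exact mul_inv_eq_iff_eq_mul.1 this
  · intro h
    show _ = _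
    rw [zn, ← QuotientGroup.mk_mul, ← QuotientGroup.mk_mul]
    exact congrArg _ (Subtype.ext h)

theorem zn_order : orderOf (zn T) = 3 :=
  orderOf_eq_prime (by
    rw [zn, ← QuotientGroup.mk_pow, show (⟨D.z, z_mem_Cn T⟩ : Cn T) ^ 3 = 1 from Subtype.ext D.z_cube]; rfl)
    fun e => D.z_ne (eq_one_of_n_Zc T (mem_subgroupOf.1 ((QuotientGroup.eq_one_iff _).1 e)) (mem_zpowers _))

/-- The centraliser of `a₁ a₂` and the centre. -/
abbrev C0 : Subgroup G := Cn T ⊓ centralizer ({D.z} : Set G)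

theorem mem_C0 {g : G} : g ∈ C0 T ↔ Commute g (nn T) ∧ Commute g D.z :=
  and_congr mem_centralizer_singleton_iff mem_centralizer_singleton_iff

/-- The map to the centraliser in the quotient. -/
def psi : C0 T →* centralizer ({zn T} : Set (Yn T)) :=
  ((QuotientGroup.mk' (An T)).comp (Subgroup.inclusion inf_le_left)).codRestrict _ fun g =>
    mem_centralizer_singleton_iff.2 ((commute_zn T).2 ((mem_C0 T).1 g.2).2)

theorem psi_surj : Function.Surjective (psi T) := by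
  rintro ⟨y, hy⟩
  obtain ⟨g, rfl⟩ := QuotientGroup.mk'_surjective (An T) y
  exact ⟨⟨g, (mem_C0 T).2 ⟨(mem_Cn T).1 g.2, (commute_zn T).1 (mem_centralizer_singleton_iff.1 hy)⟩⟩, rfl⟩

theorem psi_eq_one {g : C0 T} : psi T g = 1 ↔ (g : G) ∈ zpowers (nn T) := by
  rw [← Subtype.coe_inj]
  exact (QuotientGroup.eq_one_iff _).trans mem_subgroupOf

theorem card_ker_psi : Nat.card (psi T).ker = 3 := by
  refine (Nat.card_congr
    { toFun := fun g => (⟨(g.1 : G), (psi_eq_one T).1 g.2⟩ : zpowers (nn T))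
      invFun := fun b => ⟨⟨b.1, zpowers_le.2 ((mem_C0 T).2 ⟨Commute.refl _, D.comm_z _ (n_mem_Q T)⟩) b.2⟩,
        (psi_eq_one T).2 b.2⟩
      left_inv := fun _ => rfl
      right_inv := fun _ => rfl }).trans ?_
  rw [Nat.card_zpowers, orderOf_n]

theorem card_map_psi {K : Subgroup (C0 T)} (h : (psi T).ker ≤ K) : Nat.card (K.map (psi T)) * 3 = Nat.card K := by
  have := Cfsg.Lib.U6Three.card_map_mul (psi T) K
  rwa [inf_eq_right.2 h, card_ker_psi] at this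

variable {T}

theorem card_Stab (h3 : T.IsThree) : Nat.card T.B.Stab = 729 := by
  let f : T.B.Stab →* Multiplicative (ZMod 3) :=
    MonoidHom.mk' (fun g => Multiplicative.ofAdd (T.B.k1 g)) fun g h => by rw [T.B.k1_mul]; rfl
  have hsurj : Function.Surjective f := fun m => by
    have h1 := (T.h.diag T.B T.hx).1
    refine ⟨⟨_, zp_mem T.hx (m.toAdd * (T.B.k1 ⟨_, T.hx⟩)⁻¹)⟩, ?_⟩
    show Multiplicative.ofAdd (T.B.k1 _) = m
    rw [T.B.k1_zp ⟨_, T.hx⟩, inv_mul_cancel_right₀ h1]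
    rfl
  have hk : f.ker = D.Q.subgroupOf T.B.Stab := by
    ext g
    refine ⟨fun h => mem_subgroupOf.2 (h3.mem_Q (congrArg Multiplicative.toAdd h)), fun h => ?_⟩
    show Multiplicative.ofAdd (T.B.k1 g) = 1
    rw [show g = ⟨g.1, T.B.Q_le_Stab (mem_subgroupOf.1 h)⟩ from rfl, T.B.k1_of_Q (mem_subgroupOf.1 h)]
    rfl
  have e := Subgroup.card_eq_card_quotient_mul_card_subgroup f.ker
  rw [Nat.card_congr (QuotientGroup.quotientKerEquivOfSurjective f hsurj).toEquiv, hk,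
    Nat.card_congr (subgroupOfEquivOfLe T.B.Q_le_Stab).toEquiv, D.card_Q] at e
  simpa using e

theorem card_Stab_n (h3 : T.IsThree) : Nat.card (T.B.Stab ⊓ Cn T : Subgroup G) = 243 := by
  have hn : ∀ g : T.B.Stab, ⁅(g : G), nn T⁆ ∈ D.Zc := fun g =>
    ((D.fixMod g g.2.1).mul_mem (show T.B.a1 ∈ D.fixMod (g : G) g.2.1 from ⟨T.B.ha1.1, g.2.2.1⟩)
      (show T.B.a2 ∈ D.fixMod (g : G) g.2.1 from ⟨T.B.ha2.1, g.2.2.2⟩)).2
  let f : T.B.Stab →* D.Zc := MonoidHom.mk' (fun g => ⟨⁅(g : G), nn T⁆, hn g⟩) fun g h => Subtype.ext (by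
    show ⁅(g : G) * h, nn T⁆ = ⁅(g : G), nn T⁆ * ⁅(h : G), nn T⁆
    rw [show ⁅(g : G) * h, nn T⁆ = (g : G) * ⁅(h : G), nn T⁆ * (g : G)⁻¹ * ⁅(g : G), nn T⁆ by
      simp only [commutatorElement_def]; group, (D.comm_Zc g.2.1 (hn h)).eq, mul_inv_cancel_right]
    exact (D.comm_Q_Zc (D.Zc_le (hn h)) (hn g)).eq)
  have hsurj : Function.Surjective f := fun w => by
    obtain ⟨k, hk⟩ := D.exists_zp w.2
    refine ⟨⟨_, T.B.Q_le_Stab (zp_mem T.B.hb1.1 k)⟩, Subtype.ext ?_⟩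
    show ⁅zp T.B.b1 k, T.B.a1 * T.B.a2⁆ = (w : G)
    rw [hk, D.form_mul_right (zp_mem T.B.hb1.1 k) T.B.ha1.1 T.B.ha2.1,
      commutatorElement_eq_one_iff_commute.2 (zp_comm (T.S.comm12 T.B.hb1 T.B.ha2) k), mul_one,
      D.form_zp_left T.B.hb1.1 T.B.ha1.1 T.B.h1 D.z_cube]
  have e := Subgroup.card_eq_card_quotient_mul_card_subgroup f.ker
  have hk : Nat.card f.ker = Nat.card (T.B.Stab ⊓ Cn T : Subgroup G) := Nat.card_congr
    { toFun := fun g => ⟨(g.1 : G), g.1.2, (mem_Cn T).2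
        (commutatorElement_eq_one_iff_commute.1 (congrArg Subtype.val g.2))⟩
      invFun := fun g => ⟨⟨g.1, g.2.1⟩, Subtype.ext
        (commutatorElement_eq_one_iff_commute.2 ((mem_Cn T).1 g.2.2))⟩
      left_inv := fun _ => rfl
      right_inv := fun _ => rfl }
  rw [Nat.card_congr (QuotientGroup.quotientKerEquivOfSurjective f hsurj).toEquiv, hk, card_Stab h3,
    D.card_Zc] at e
  omega

theorem card_Stab_C0 (h3 : T.IsThree) : Nat.card (T.B.Stab.subgroupOf (C0 T)) = 243 := by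
  rw [← card_Stab_n h3]
  exact Nat.card_congr
    { toFun := fun g => ⟨(g.1 : G), mem_subgroupOf.1 g.2, g.1.2.1⟩
      invFun := fun g => ⟨⟨g.1, g.2.2, mem_centralizer_singleton_iff.2 g.2.1.1⟩, mem_subgroupOf.2 g.2.1⟩
      left_inv := fun _ => rfl
      right_inv := fun _ => rfl }

theorem card_C0 (h3 : T.IsThree) {τ : G} (hz : Commute τ D.z) (hn : Commute τ (nn T))
    (hf : ∀ q ∈ T.S.Q1, τ * q * τ⁻¹ ∈ T.S.Q2) : Nat.card (C0 T) = 486 := by
  have h2 : (T.B.Stab.subgroupOf (C0 T)).index = 2 := by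
    refine Subgroup.index_eq_two_iff.2 ⟨⟨τ, (mem_C0 T).2 ⟨hn, hz⟩⟩, fun b => ?_⟩
    obtain ⟨hbn, hbz⟩ := (mem_C0 T).1 b.2
    by_cases hb : (b : G) ∈ T.B.Stab
    · refine Or.inr ⟨mem_subgroupOf.2 hb, fun h => ?_⟩
      have h' : (b : G) * τ ∈ T.B.Stab := mem_subgroupOf.1 h
      have := T.B.Stab.mul_mem (T.B.Stab.inv_mem hb) h'
      rw [inv_mul_cancel_left] at this
      exact not_HN_of_flip T.B hf (stab_HN T.B this)
    · refine Or.inl ⟨mem_subgroupOf.2 (stab_of_HN T.B (hbn.mul_left hn) ?_), fun h => hb (mem_subgroupOf.1 h)⟩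
      show (b : G) * τ ∈ T.S.HN
      have hbf := (HN_or_flip T.B hbz).resolve_left fun h => hb (stab_of_HN T.B hbn h)
      refine T.S.mem_HN_of (hbz.mul_left hz) T.B.ha1 T.B.a1_not_Zc ?_
      rw [show (b : G) * τ * T.B.a1 * ((b : G) * τ)⁻¹ = (b : G) * (τ * T.B.a1 * τ⁻¹) * (b : G)⁻¹ by group]
      exact other_half hbz hbf _ (hf _ T.B.ha1)
  rw [← (T.B.Stab.subgroupOf (C0 T)).card_mul_index, h2, card_Stab_C0 h3]

theorem center_test (h3 : T.IsThree) {g : G} (hg : g ∈ T.B.Stab)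
    (hn : Commute g (nn T)) (hc : ∀ u ∈ T.B.Stab, Commute u (nn T) → ⁅g, u⁆ ∈ zpowers (nn T)) :
    ∃ k i : ZMod 3, g = zp D.z k * zp (nn T) i := by
  have ha : ∀ a, a ∈ D.Q → Commute a (nn T) → ⁅g, a⁆ ∈ D.Zc → Commute g a := fun a ha han hz =>
    commutatorElement_eq_one_iff_commute.1 (eq_one_of_n_Zc T (hc a (T.B.Q_le_Stab ha) han) hz)
  have g1 := ha _ T.B.ha1.1 ((Commute.refl _).mul_right T.B.comm_a) hg.2.1
  have g2 := ha _ T.B.ha2.1 (T.B.comm_a.symm.mul_right (Commute.refl _)) hg.2.2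
  obtain ⟨q, hq, m, rfl⟩ := h3.stab_decomp hg
  have hxm : T.x ^ m ∈ T.J := T.J.pow_mem (T.h.x_mem_J T.B T.hx) m
  have hqa : ∀ {a : G}, a ∈ T.J → Commute (q * T.x ^ m) a → Commute q a := fun {a} haJ e => by
    have := e.mul_left (J_comm T hxm haJ).inv_left
    rwa [mul_inv_cancel_right] at this
  obtain ⟨k, i, j, rfl⟩ := T.B.mem_el_of_comm hq (hqa (T.cv_a1 ▸ T.cv_mem _) g1) (hqa (T.cv_a2 ▸ T.cv_mem _) g2)
  obtain ⟨v, hv⟩ := T.exists_cv (T.J.mul_mem (T.h.el_mem_J T.B T.hx k i j) hxm)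
  obtain ⟨u, hu, hact⟩ := T.exists_u 1 2
  have hun : Commute u (nn T) := mul_inv_eq_iff_eq_mul.1 (by
    rw [← cv_n T, hact.eq, show app (uM 1 2) (0, 1, 1, 0) = (0, 1, 1, 0) by decide +kernel])
  obtain ⟨c, hc'⟩ := mem_zp_n T (hc u (T.B.Q_le_Stab hu) hun)
  rw [← hv] at hc'
  have e : u * T.cv v * u⁻¹ = (zp (nn T) c)⁻¹ * T.cv v := by
    rw [← hc', commutatorElement_def]; group
  rw [hact.eq, zp_inv (n_cube T), ← cv_zp_n, ← T.cv_add] at e
  obtain ⟨e4, e3⟩ := fixed_translation v (-c) (T.cv_inj e)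
  refine ⟨T.ε * v.1, v.2.1, ?_⟩
  rw [← hv, ← cv_zp_n]
  simp [Setting.cv, Basis.el, e4, e3, zp_zero, mul_assoc]

/-- The centraliser of the image of the centre is the centraliser of a triple 3-cycle in `S₉`. -/
theorem exists_iso (h3 : T.IsThree) (hI : ∃ g : G, Commute g T.B.a1 ∧ g * D.z * g⁻¹ = D.z⁻¹) :
    Nat.card (centralizer ({zn T} : Set (Yn T))) = 162 ∧
    Nonempty (centralizer ({zn T} : Set (Yn T)) ≃* Subgroup.centralizer ({Equiv.swap (0 : Fin 9) 1 * Equiv.swap 1 2 *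
      Equiv.swap 3 4 * Equiv.swap 4 5 * Equiv.swap 6 7 * Equiv.swap 7 8} : Set (Equiv.Perm (Fin 9)))) := by
  haveI : Fact (Nat.Prime 3) := ⟨Nat.prime_three⟩
  haveI : Fact (Nat.Prime 2) := ⟨Nat.prime_two⟩
  obtain ⟨τ, hτ2, hτz, hτn, hτf⟩ := exists_flip h3 hI
  set τ0 : C0 T := ⟨τ, (mem_C0 T).2 ⟨hτn, hτz⟩⟩
  have hnQ : ∀ {g : C0 T}, g ∈ (psi T).ker → (g : G) ∈ D.Q := fun {g} hg =>
    zpowers_le.2 (n_mem_Q T) ((psi_eq_one T).1 hg)
  have hnJ : ∀ {g : C0 T}, g ∈ (psi T).ker → (g : G) ∈ T.J := fun {g} hg =>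
    zpowers_le.2 (n_mem_J T) ((psi_eq_one T).1 hg)
  have hH : Nat.card (centralizer ({zn T} : Set (Yn T))) = 162 := by
    have h := card_map_psi T (K := ⊤) le_top
    rw [Subgroup.map_top_of_surjective _ (psi_surj T), Subgroup.card_top, Subgroup.card_top,
      card_C0 h3 hτz hτn hτf] at h
    omega
  refine ⟨hH, ?_⟩
  set SP := (T.B.Stab.subgroupOf (C0 T)).map (psi T) with hSP
  have hSPc : Nat.card SP = 81 := by
    have h := card_map_psi T (K := T.B.Stab.subgroupOf (C0 T)) fun g hg =>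
      mem_subgroupOf.2 (T.B.Q_le_Stab (hnQ hg))
    rw [card_Stab_C0 h3, ← hSP] at h
    omega
  have hSPi : SP.index = 2 := by
    have h := SP.card_mul_index
    rw [hSPc, hH] at h
    omega
  have hSPp : IsPGroup 3 SP := IsPGroup.of_card (n := 4) (by rw [hSPc]; norm_num)
  obtain ⟨S, hS⟩ : ∃ S : Sylow 3 (centralizer ({zn T} : Set (Yn T))), (S : Subgroup _) = SP :=
    ⟨hSPp.toSylow (by rw [hSPi]; norm_num), rfl⟩
  set TP := zpowers (psi T τ0) with hTP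
  have hτo : orderOf (psi T τ0) = 2 := orderOf_eq_prime
    (by rw [← map_pow, show τ0 ^ 2 = 1 from Subtype.ext (by rw [coe_pow, pow_two]; exact hτ2), map_one])
    fun e => not_HN_of_flip T.B hτf (T.S.Q_le_HN (hnQ (g := τ0) e))
  have hTPc : Nat.card TP = 2 := by rw [hTP, Nat.card_zpowers, hτo]
  have hTPi : TP.index = 81 := by
    have h := TP.card_mul_index
    rw [hTPc, hH] at h
    omega
  have hTPp : IsPGroup 2 TP := IsPGroup.of_card (n := 1) (by rw [hTPc]; norm_num)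
  obtain ⟨TT, hTT⟩ : ∃ TT : Sylow 2 (centralizer ({zn T} : Set (Yn T))), (TT : Subgroup _) = TP :=
    ⟨hTPp.toSylow (by rw [hTPi]; norm_num), rfl⟩
  set J' := (T.J.subgroupOf (C0 T)).map (psi T) with hJ'
  haveI : J'.Normal := Subgroup.Normal.map (H := T.J.subgroupOf (C0 T)) ⟨fun w hw g => by
    obtain ⟨hgn, hgz⟩ := (mem_C0 T).1 g.2
    exact mem_subgroupOf.2 ((mem_normalizer_iff.1 (norm_J T hgz hgn) _).1 (mem_subgroupOf.1 hw))⟩ _ (psi_surj T)
  have hJcomm : IsMulCommutative J' := ⟨⟨fun a b => by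
    obtain ⟨u, hu, eu⟩ := a.2
    obtain ⟨v, hv, ev⟩ := b.2
    refine Subtype.ext ?_
    rw [coe_mul, coe_mul, ← eu, ← ev, ← map_mul, ← map_mul]
    exact congrArg _ (Subtype.ext (J_comm T (mem_subgroupOf.1 hu) (mem_subgroupOf.1 hv)).eq)⟩⟩
  have hJexp : ∀ a ∈ J', a ^ 3 = 1 := by
    rintro _ ⟨g, hg, rfl⟩
    obtain ⟨v, hv⟩ := T.exists_cv (mem_subgroupOf.1 hg)
    rw [← map_pow, show g ^ 3 = 1 from Subtype.ext (by
      rw [coe_pow, ← hv, pow_three, ← T.cv_add, ← T.cv_add,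
        three_v v, T.cv_zero, coe_one]),
      map_one]
  have hJle : T.J ≤ C0 T := fun w hw =>
    (mem_C0 T).2 ⟨J_comm T hw (n_mem_J T), (J_le_Stab T hw).1⟩
  have hJc : Nat.card J' = 27 := by
    have h := card_map_psi T (K := T.J.subgroupOf (C0 T)) fun g hg => mem_subgroupOf.2 (hnJ hg)
    rw [Nat.card_congr (subgroupOfEquivOfLe hJle).toEquiv, T.h.card_J T.B T.hx, ← hJ'] at h
    omega
  set z0 : C0 T := ⟨D.z, (mem_C0 T).2 ⟨(mem_Cn T).1 (z_mem_Cn T), Commute.refl _⟩⟩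
  have hcentral : ∀ h : centralizer ({zn T} : Set (Yn T)), Commute h (psi T z0) := fun h =>
    Subtype.ext (mem_centralizer_singleton_iff.1 h.2)
  refine Cfsg.Agent.S3376.result hH S TT J' hJcomm hJexp hJc (zpowers (psi T z0)) ?_ ?_ ?_ ?_
  · rw [hS]
    refine le_antisymm (zpowers_le.2 ⟨⟨z0, mem_subgroupOf.2 (T.B.Q_le_Stab D.z_mem), rfl⟩,
      fun h _ => (hcentral h).eq⟩) ?_
    rintro _ ⟨⟨g, hg, rfl⟩, hy⟩
    have hg' := mem_subgroupOf.1 hg
    obtain ⟨hgn, -⟩ := (mem_C0 T).1 g.2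
    obtain ⟨k, i, e⟩ := center_test h3 hg' hgn fun u hu hun => by
      have hu0 : u ∈ C0 T := (mem_C0 T).2 ⟨hun, hu.1⟩
      have h := hy (psi T ⟨u, hu0⟩) ⟨⟨u, hu0⟩, mem_subgroupOf.2 hu, rfl⟩
      exact (psi_eq_one T (g := g * ⟨u, hu0⟩ * g⁻¹ * ⟨u, hu0⟩⁻¹)).1 (by
        rw [map_mul, map_mul, map_mul, map_inv, map_inv, ← h, mul_inv_cancel_right, mul_inv_cancel])
    have hi : zp (nn T) i ∈ C0 T := hJle (zp_mem (n_mem_J T) i)
    rw [show g = z0 ^ k.val * ⟨_, hi⟩ from Subtype.ext e, map_mul, map_pow,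
      (psi_eq_one T (g := ⟨_, hi⟩)).2 (zp_mem (mem_zpowers (nn T)) i), mul_one]
    exact pow_mem (mem_zpowers _) _
  · rw [Nat.card_zpowers]
    have : orderOf ((psi T z0 : centralizer ({zn T} : Set (Yn T))) : Yn T) = 3 := zn_order T
    rwa [Subgroup.orderOf_coe] at this
  · rw [zpowers_le]
    exact fun h _ => (hcentral h).eq
  · intro hE
    rw [hS, hTT] at hE
    set a0 : C0 T := ⟨T.B.a1, hJle (T.cv_a1 ▸ T.cv_mem _)⟩
    have h1 : psi T a0 ∈ SP := ⟨a0, mem_subgroupOf.2 (T.B.Q_le_Stab T.B.ha1.1), rfl⟩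
    have h2 := (hE.ge h1).2 (psi T τ0) (mem_zpowers _)
    have h3' := (psi_eq_one T (g := τ0 * a0 * τ0⁻¹ * a0⁻¹)).1 (by
      rw [map_mul, map_mul, map_mul, map_inv, map_inv, h2, mul_inv_cancel_right, mul_inv_cancel])
    obtain ⟨i, hi⟩ := mem_zp_n T h3'
    have e1 : τ * T.B.a1 * τ⁻¹ = T.cv (0, i + 1, i, 0) := by
      rw [show ((0, i + 1, i, 0) : V4) = (0, i, i, 0) + (0, 1, 0, 0) by simp, T.cv_add, T.cv_a1, cv_zp_n, ← hi]
      show _ = τ * T.B.a1 * τ⁻¹ * T.B.a1⁻¹ * T.B.a1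
      group
    have e2 : τ * T.B.a2 * τ⁻¹ = T.cv (0, -i, 1 - i, 0) := by
      refine mul_left_cancel (a := τ * T.B.a1 * τ⁻¹) ?_
      rw [show τ * T.B.a1 * τ⁻¹ * (τ * T.B.a2 * τ⁻¹) = τ * nn T * τ⁻¹ by simp only [nn]; group, hτn.eq,
        mul_inv_cancel_right, e1, ← T.cv_add, ← cv_n T]
      congr 1
      simp
    have q1 := hτf _ T.B.ha1
    rw [e1, T.cv_el] at q1
    have q2 := other_half hτz hτf _ T.B.ha2
    rw [e2, T.cv_el] at q2
    exact no_coord i (el_mem_Q2 T.B q1) (el_mem_Q1 T.B q2)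

end Cfsg.Lib.U6ThreeSmall
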