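import Cfsg.Agent.Lib.U6Three.Cent

/-!
# An involution of `C(z)` fixing `a₁ a₂` and exchanging the halves

The centraliser of `n = a₁ a₂` in `C(z)` fixes both lines up to the exchange of the halves, hence
normalises the plane.
-/

set_option autoImplicit false
set_option linter.unusedSectionVars false
set_option maxRecDepth 4000
set_option synthInstance.maxSize 2000
set_option maxHeartbeats 800000

namespace Cfsg.Lib.U6ThreeSmall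

open Subgroup Cfsg.Lib.U6Three
open scoped commutatorElement

theorem sl_conj_three : ∀ u m : SL3, u ^ 3 = 1 → u ≠ 1 → m ^ 3 = 1 → m ≠ 1 →
    ∃ c : SL3, c * m = u * c ∨ c * m = u * u * c := by decide +kernel

theorem sl_cent_three : ∀ u w : SL3, u ^ 3 = 1 → u ≠ 1 → w ^ 3 = 1 → w * u = u * w →
    w = 1 ∨ w = u ∨ w = u * u := by decide +kernel

variable {G : Type*} [Group G] [Finite G] {D : Data G}

section Split

variable {S : Split D} (B : Basis S)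

theorem el_mem_Q2 {k i j : ZMod 3} (h : B.el k i j ∈ S.Q2) : i = 0 := by
  have hz : zp D.z k ∈ D.Zc := zp_mem (mem_zpowers _) k
  have h2 : zp D.z k * zp B.a1 i ∈ S.Q2 := by
    have := S.Q2.mul_mem h (S.Q2.inv_mem (zp_mem B.ha2 j))
    rwa [Basis.el, mul_inv_cancel_right] at this
  have hL := S.inf_eq.le ⟨S.Q1.mul_mem (D.Zc_le_fixC S.s_z hz) (zp_mem B.ha1 i), h2⟩
  refine B.shift_unique ?_
  have := D.Zc.mul_mem (D.Zc.inv_mem hz) hL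
  rwa [inv_mul_cancel_left] at this

theorem el_mem_Q1 {k i j : ZMod 3} (h : B.el k i j ∈ S.Q1) : j = 0 := by
  rw [← Basis.el_swap] at h
  exact el_mem_Q2 B.swap h

/-- An element exchanging the halves in one direction does so in the other. -/
theorem other_half {g : G} (hg : Commute g D.z) (h : ∀ q ∈ S.Q1, g * q * g⁻¹ ∈ S.Q2) :
    ∀ q ∈ S.Q2, g * q * g⁻¹ ∈ S.Q1 := by
  refine (S.swap.conj_half hg).resolve_left fun h' => ?_
  have he : S.Q2.map (MulAut.conj g).toMonoidHom = S.Q2 := Subgroup.eq_of_le_of_card_ge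
    (by rintro _ ⟨x, hx, rfl⟩; exact h' x hx)
    (le_of_eq (Subgroup.card_map_of_injective (MulAut.conj g).injective).symm)
  have hle : S.Q1 ≤ S.Q2 := fun x hx => by
    obtain ⟨y, hy, e⟩ := he.ge (h x hx)
    exact mul_left_cancel (mul_right_cancel e) ▸ hy
  have h27 := Subgroup.card_le_of_le ((le_inf le_rfl hle).trans S.inf_eq.le)
  rw [S.card₁, D.card_Zc] at h27
  omega

theorem a1_conj_not_both {g : G} (hg : Commute g D.z) (h1 : g * B.a1 * g⁻¹ ∈ S.Q1)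
    (h2 : g * B.a1 * g⁻¹ ∈ S.Q2) : False := by
  refine B.a1_not_Zc ?_
  obtain ⟨k, hk⟩ := mem_zpowers_iff.1 (S.inf_eq.le ⟨h1, h2⟩)
  refine ⟨k, ?_⟩
  have e := hg.zpow_right k
  show D.z ^ k = B.a1
  rw [hk] at e
  calc D.z ^ k = g⁻¹ * (g * B.a1 * g⁻¹) * g := by rw [← hk, mul_assoc, ← (hg.zpow_right k).eq]; group
    _ = B.a1 := by group

theorem HN_or_flip (B : Basis S) {g : G} (hg : Commute g D.z) : g ∈ S.HN ∨ ∀ q ∈ S.Q1, g * q * g⁻¹ ∈ S.Q2 :=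
  (S.conj_half hg).imp_left fun h => S.mem_HN_of hg B.ha1 B.a1_not_Zc (h _ B.ha1)

theorem not_HN_of_flip (B : Basis S) {g : G} (h : ∀ q ∈ S.Q1, g * q * g⁻¹ ∈ S.Q2) : g ∉ S.HN := fun hg =>
  a1_conj_not_both B (S.mem_HN.1 hg).1 (S.conj_Q1 hg B.ha1) (h _ B.ha1)

theorem HN_normal (B : Basis S) {g u : G} (hg : Commute g D.z) (hu : u ∈ S.HN) : g * u * g⁻¹ ∈ S.HN := by
  rcases HN_or_flip B hg with h | h
  · exact S.HN.mul_mem (S.HN.mul_mem h hu) (S.HN.inv_mem h)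
  have hi : ∀ q ∈ S.Q1, g⁻¹ * q * g⁻¹⁻¹ ∈ S.Q2 :=
    ((HN_or_flip B hg.inv_left).resolve_left fun h' => not_HN_of_flip B h (inv_inv g ▸ S.HN.inv_mem h'))
  refine S.mem_HN_of ((hg.mul_left (S.mem_HN.1 hu).1).mul_left hg.inv_left) B.ha1 B.a1_not_Zc ?_
  rw [show g * u * g⁻¹ * B.a1 * (g * u * g⁻¹)⁻¹ = g * (u * (g⁻¹ * B.a1 * g⁻¹⁻¹) * u⁻¹) * g⁻¹ by group]
  exact other_half hg h _ (S.HN_Q2 hu _ (hi _ B.ha1))

theorem stab_HN {g : G} (hg : g ∈ B.Stab) : g ∈ S.HN :=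
  S.mem_HN_of hg.1 B.ha1 B.a1_not_Zc (B.norm_one hg _ B.ha1)

/-- An element of the normaliser of the half fixing `a₁ a₂` fixes both lines. -/
theorem stab_of_HN {g : G} (hn : Commute g (B.a1 * B.a2)) (hg : g ∈ S.HN) : g ∈ B.Stab := by
  have hz := (S.mem_HN.1 hg).1
  have e : (g * B.a1 * g⁻¹) * (g * B.a2 * g⁻¹) = B.a1 * B.a2 := by
    rw [show (g * B.a1 * g⁻¹) * (g * B.a2 * g⁻¹) = g * (B.a1 * B.a2) * g⁻¹ by group, hn.eq, mul_inv_cancel_right]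
  obtain ⟨c, hc, ec⟩ : ∃ c, c ∈ S.Q1 ∧ g * B.a1 * g⁻¹ = c := ⟨_, S.conj_Q1 hg B.ha1, rfl⟩
  obtain ⟨d, hd, ed⟩ : ∃ d, d ∈ S.Q2 ∧ g * B.a2 * g⁻¹ = d := ⟨_, S.HN_Q2 hg _ B.ha2, rfl⟩
  rw [ec, ed] at e
  have e' : B.a1⁻¹ * c = B.a2 * d⁻¹ := by
    rw [eq_mul_inv_iff_mul_eq, mul_assoc, e, inv_mul_cancel_left]
  have hw : B.a1⁻¹ * c ∈ D.Zc :=
    S.inf_eq.le ⟨S.Q1.mul_mem (S.Q1.inv_mem B.ha1) hc, e' ▸ S.Q2.mul_mem B.ha2 (S.Q2.inv_mem hd)⟩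
  refine ⟨hz, ?_, ?_⟩
  · rw [commutatorElement_def, ec]
    have : c * B.a1⁻¹ = B.a1⁻¹ * c := by
      calc c * B.a1⁻¹ = B.a1 * (B.a1⁻¹ * c) * B.a1⁻¹ := by group
        _ = B.a1⁻¹ * c := by rw [(D.comm_Q_Zc B.ha1.1 hw).eq, mul_inv_cancel_right]
    rw [this]
    exact hw
  · rw [commutatorElement_def, ed]
    have := D.Zc.inv_mem (e' ▸ hw)
    rwa [mul_inv_rev, inv_inv] at this

end Split

variable (T : Setting D)

/-- The element `a₁ a₂`. -/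
abbrev nn : G := T.B.a1 * T.B.a2

theorem cv_n : T.cv (0, 1, 1, 0) = nn T := by simp [Setting.cv, Basis.el, zp_zero, zp_one]

theorem n_mem_J : nn T ∈ T.J := cv_n T ▸ T.cv_mem _

theorem n_mem_Q : nn T ∈ D.Q := D.Q.mul_mem T.B.ha1.1 T.B.ha2.1

theorem n_cube : nn T ^ 3 = 1 := by rw [T.B.comm_a.mul_pow, T.B.a1_cube, T.B.a2_cube, mul_one]

theorem n_not_Zc : nn T ∉ D.Zc := fun h => T.B.a1_not_Zc (T.S.inf_eq.le ⟨T.B.ha1, by
  have := T.S.Q2.mul_mem (D.Zc_le_fixC T.S.t_z h) (T.S.Q2.inv_mem T.B.ha2)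
  rwa [mul_inv_cancel_right] at this⟩)

theorem n_ne : nn T ≠ 1 := fun h => n_not_Zc T (h ▸ D.Zc.one_mem)

theorem orderOf_n : orderOf (nn T) = 3 := orderOf_eq_prime (n_cube T) (n_ne T)

theorem J_comm {u v : G} (hu : u ∈ T.J) (hv : v ∈ T.J) : Commute u v :=
  T.h.comm_P T.B T.hx (T.h.J_le_P T.B T.hx hu) hv

theorem J_le_Stab : T.J ≤ T.B.Stab := fun _ hw => T.h.P_le_Stab T.B T.hx (T.h.J_le_P T.B T.hx hw)

theorem three_HN {g : G} (hz : Commute g D.z) (hg : ∃ k, g ^ 3 ^ k = 1) : g ∈ T.S.HN :=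
  T.S.mem_HN_of hz T.B.ha1 T.B.a1_not_Zc (T.S.norm_one_of_three hz hg _ T.B.ha1)

theorem stab_conj {g u : G} (hz : Commute g D.z) (hn : Commute g (nn T)) (hu : u ∈ T.B.Stab)
    (hun : Commute u (nn T)) : g * u * g⁻¹ ∈ T.B.Stab :=
  stab_of_HN T.B ((hn.mul_left hun).mul_left hn.inv_left) (HN_normal T.B hz (stab_HN T.B hu))

/-- The centraliser of `z` and `a₁ a₂` normalises the plane. -/
theorem norm_J {g : G} (hz : Commute g D.z) (hn : Commute g (nn T)) : g ∈ normalizer (T.J : Set G) :=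
  T.weakly_closed fun _ hw => stab_conj T hz hn (J_le_Stab T hw) (J_comm T hw (n_mem_J T))

theorem Q_of_cv {v : V4} (h : T.cv v ∈ D.Q) : v.2.2.2 = 0 := by
  by_contra hne
  refine T.h.notin ?_
  have h2 := D.Q.mul_mem (D.Q.inv_mem (T.B.el_mem (T.ε * v.1) v.2.1 v.2.2.1)) h
  rw [Setting.cv, inv_mul_cancel_left] at h2
  have := zp_mem h2 v.2.2.2⁻¹
  rwa [zp_zp T.D'.z_cube, mul_inv_cancel₀ hne, zp_one] at this

variable {T}

/-- An inverting element can be chosen in the normaliser of the plane. -/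
theorem exists_inverting (h3 : T.IsThree) (hI : ∃ g : G, Commute g T.B.a1 ∧ g * D.z * g⁻¹ = D.z⁻¹) :
    ∃ g, g ∈ normalizer (T.J : Set G) ∧ Commute g T.B.a1 ∧ g * D.z * g⁻¹ = D.z⁻¹ := by
  obtain ⟨g, hga, hgz⟩ := hI
  set K : Subgroup G := T.Ca ⊓ centralizer ({D.z} : Set G)
  have hKz : ∀ {w}, w ∈ K → Commute w D.z := fun hw => mem_centralizer_singleton_iff.1 hw.2
  obtain ⟨f, hf⟩ : ∃ f : K →* SL3, ∀ w : K, f w = T.B.matHom2 ⟨w, T.HN_of_Ca w.2.1 (hKz w.2)⟩ :=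
    ⟨T.B.matHom2.comp (Subgroup.inclusion fun w hw => T.HN_of_Ca hw.1 (hKz hw)), fun _ => rfl⟩
  have hker : ∀ w : K, f w = 1 → (w : G) ∈ D.Q := fun w hw => by
    obtain ⟨b, hb, q, hq, e⟩ := Setting.mat2_ker h3 w.2.1 (hKz w.2) ((hf w).symm.trans hw)
    exact e ▸ D.Q.mul_mem (T.a1_pow_Q hb).1 hq.1
  have hxJ := T.h.x_mem_J T.B T.hx
  have hJK : T.J ≤ K := fun w hw => ⟨T.J_le_Ca hw, mem_centralizer_singleton_iff.2 (J_le_Stab T hw).1⟩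
  have hconjK : ∀ {y : G}, Commute y T.B.a1 → y * D.z * y⁻¹ = D.z⁻¹ → ∀ {w}, w ∈ K → y * w * y⁻¹ ∈ K := by
    intro y hy hyz w hw
    refine ⟨T.mem_Ca.2 ((hy.mul_left (T.mem_Ca.1 hw.1)).mul_left hy.inv_left), mem_centralizer_singleton_iff.2 ?_⟩
    have h1 : Commute (y * w * y⁻¹) (y * D.z * y⁻¹) := (hKz hw).map (MulAut.conj y).toMonoidHom
    rw [hyz] at h1
    exact Commute.inv_right_iff.1 h1
  set xK : K := ⟨T.x, hJK hxJ⟩
  set u := f xK with hu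
  have hu1 : u ≠ 1 := by rw [hu, hf]; exact Setting.mat2_x
  have hu3 : u ^ 3 = 1 := by rw [hu, ← map_pow, show xK ^ 3 = 1 from Subtype.ext T.D'.z_cube, map_one]
  set gx : K := ⟨g * T.x * g⁻¹, hconjK hga hgz (hJK hxJ)⟩
  have hgx3 : f gx ^ 3 = 1 := by
    rw [← map_pow, show gx ^ 3 = 1 from Subtype.ext (by
      show (g * T.x * g⁻¹) ^ 3 = 1
      rw [conj_pow, T.D'.z_cube]; group), map_one]
  have hgx1 : f gx ≠ 1 := fun h => by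
    have hZ : g * T.x * g⁻¹ ∈ D.Zc := D.pt_mem_Q (T.h.pt.conj g) (hker gx h)
    obtain ⟨k, hk⟩ := mem_zpowers_iff.1 hZ
    refine T.h.notin ?_
    have e : g⁻¹ * D.z * g = D.z⁻¹ := by
      have e1 : g * D.z⁻¹ * g⁻¹ = D.z := by rw [← conj_inv, hgz, inv_inv]
      conv_lhs => rw [← e1]
      group
    show T.x ∈ D.Q
    rw [show T.x = (g⁻¹ * D.z * g⁻¹⁻¹) ^ k by rw [conj_zpow, hk]; group, inv_inv, e]
    exact D.Q.zpow_mem (D.Q.inv_mem D.z_mem) k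
  obtain ⟨c0, hc0⟩ := sl_conj_three u (f gx) hu3 hu1 hgx3 hgx1
  obtain ⟨c, hcC, hcz, hc⟩ := Setting.mat2_surj T c0
  set cK : K := ⟨c, hcC, mem_centralizer_singleton_iff.2 hcz⟩
  have hcf : f cK = c0 := (hf cK).trans hc
  have hya : Commute (c * g) T.B.a1 := (T.mem_Ca.1 hcC).mul_left hga
  have hyz : c * g * D.z * (c * g)⁻¹ = D.z⁻¹ := by
    rw [show c * g * D.z * (c * g)⁻¹ = c * (g * D.z * g⁻¹) * c⁻¹ by group, hgz, hcz.inv_right.eq,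
      mul_inv_cancel_right]
  refine ⟨c * g, T.weakly_closed fun w hw => ?_, hya, hyz⟩
  set gw : K := ⟨c * g * w * (c * g)⁻¹, hconjK hya hyz (hJK hw)⟩
  set gx' : K := ⟨c * g * T.x * (c * g)⁻¹, hconjK hya hyz (hJK hxJ)⟩
  have hgx' : f gx' = c0 * f gx * c0⁻¹ := by
    rw [show gx' = cK * gx * cK⁻¹ from Subtype.ext (by
      show c * g * T.x * (c * g)⁻¹ = c * (g * T.x * g⁻¹) * c⁻¹
      group), map_mul, map_mul, map_inv, hcf]
  have hw3 : f gw ^ 3 = 1 := by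
    rw [← map_pow, show gw ^ 3 = 1 from Subtype.ext (by
      show (c * g * w * (c * g)⁻¹) ^ 3 = 1
      obtain ⟨v, rfl⟩ := T.exists_cv hw
      rw [conj_pow, pow_three, ← T.cv_add, ← T.cv_add,
        show v + (v + v) = 0 from (show ∀ a : V4, a + (a + a) = 0 by decide +kernel) v, T.cv_zero]
      group), map_one]
  have hcomm : Commute (f gw) (f gx') :=
    (show Commute gw gx' from Subtype.ext ((J_comm T hw hxJ).map (MulAut.conj (c * g)).toMonoidHom)).map f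
  have hwu : f gw * u = u * f gw := by
    rcases hc0 with e | e
    · rw [hgx', e, mul_inv_cancel_right] at hcomm
      exact hcomm.eq
    · rw [hgx', e, mul_inv_cancel_right] at hcomm
      have e3 : u = (u * u) * (u * u) := by
        conv_lhs => rw [← mul_one u, ← hu3]
        rw [pow_three]; simp only [mul_assoc]
      rw [e3]
      exact (hcomm.mul_right hcomm).eq
  obtain ⟨j, hj⟩ : ∃ j : ℕ, f gw = u ^ j := by
    rcases sl_cent_three u (f gw) hu3 hu1 hw3 hwu with e | e | e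
    exacts [⟨0, by rw [e, pow_zero]⟩, ⟨1, by rw [e, pow_one]⟩, ⟨2, by rw [e, pow_two]⟩]
  have hq := hker (gw * (xK ^ j)⁻¹) (by rw [map_mul, map_inv, map_pow, hj, mul_inv_cancel])
  have := T.B.Stab.mul_mem (T.B.Q_le_Stab hq) (T.B.Stab.pow_mem T.hx j)
  rwa [show ((gw * (xK ^ j)⁻¹ : K) : G) * T.D'.z ^ j = c * g * w * (c * g)⁻¹ by
    rw [coe_mul, coe_inv, coe_pow]
    exact inv_mul_cancel_right _ _] at this

/-- The involution. -/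
theorem exists_flip (h3 : T.IsThree) (hI : ∃ g : G, Commute g T.B.a1 ∧ g * D.z * g⁻¹ = D.z⁻¹) :
    ∃ τ : G, τ * τ = 1 ∧ Commute τ D.z ∧ Commute τ (nn T) ∧ ∀ q ∈ T.S.Q1, τ * q * τ⁻¹ ∈ T.S.Q2 := by
  obtain ⟨g, hgN, hga, hgz⟩ := exists_inverting h3 hI
  obtain ⟨W, hW, -⟩ := Setting.exists_exchange h3
  have hz : D.z = T.cv (T.ε⁻¹, 0, 0, 0) := by
    simp [Setting.cv, Basis.el, zp_zero, zp_one, T.ε_ne]
  have hWz : W * D.z * W⁻¹ = D.z⁻¹ := by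
    conv_lhs => rw [hz, hW.eq]
    rw [hz]
    refine eq_inv_of_mul_eq_one_left ?_
    rw [← T.cv_add, show app wM (T.ε⁻¹, 0, 0, 0) + (T.ε⁻¹, 0, 0, 0) = 0 from
      (show ∀ e : ZMod 3, app wM (e, 0, 0, 0) + (e, 0, 0, 0) = 0 by decide +kernel) _, T.cv_zero]
  have hWa1 : W * T.B.a1 * W⁻¹ = T.B.a2 := by
    rw [← T.cv_a1, hW.eq, ← T.cv_a2]
    exact congrArg T.cv (by decide +kernel)
  have hWa2 : W * T.B.a2 * W⁻¹ = T.B.a1⁻¹ := by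
    rw [← T.cv_a2, hW.eq, ← T.cv_a1]
    refine eq_inv_of_mul_eq_one_left ?_
    rw [← T.cv_add, show app wM (0, 0, 1, 0) + (0, 1, 0, 0) = 0 by decide +kernel, T.cv_zero]
  set sw := g * W
  have hswz : Commute sw D.z := mul_inv_eq_iff_eq_mul.1 (by
    rw [show sw * D.z * sw⁻¹ = g * (W * D.z * W⁻¹) * g⁻¹ by simp only [sw]; group, hWz, ← conj_inv, hgz, inv_inv])
  have hsw2 : sw * T.B.a2 * sw⁻¹ = T.B.a1⁻¹ := by
    rw [show sw * T.B.a2 * sw⁻¹ = g * (W * T.B.a2 * W⁻¹) * g⁻¹ by simp only [sw]; group, hWa2, hga.inv_right.eq,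
      mul_inv_cancel_right]
  have hflip : ∀ q ∈ T.S.Q1, sw * q * sw⁻¹ ∈ T.S.Q2 := (HN_or_flip T.B hswz).resolve_left fun h => by
    have h2 := T.S.HN_Q2 h _ T.B.ha2
    rw [hsw2] at h2
    exact T.B.a1_not_Zc (T.S.inf_eq.le ⟨T.B.ha1, inv_inv T.B.a1 ▸ T.S.Q2.inv_mem h2⟩)
  have himg : sw * T.B.a1 * sw⁻¹ ∈ T.J := by
    rw [show sw * T.B.a1 * sw⁻¹ = g * (W * T.B.a1 * W⁻¹) * g⁻¹ by simp only [sw]; group, hWa1]
    exact (mem_normalizer_iff.1 hgN _).1 (T.cv_a2 ▸ T.cv_mem _)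
  obtain ⟨k, j, hj, e1⟩ : ∃ k j : ZMod 3, j ≠ 0 ∧ sw * T.B.a1 * sw⁻¹ = T.B.el k 0 j := by
    obtain ⟨⟨k, i, j, l⟩, hv⟩ := T.exists_cv himg
    have hq := hflip _ T.B.ha1
    rw [← hv] at hq
    obtain rfl : l = 0 := Q_of_cv T (v := (k, i, j, l)) hq.1
    rw [T.cv_el] at hq hv
    obtain rfl := el_mem_Q2 T.B hq
    refine ⟨_, j, fun h => ?_, hv.symm⟩
    subst h
    refine a1_conj_not_both T.B hswz ?_ (hv ▸ hq)
    rw [← hv, Basis.el, zp_zero, zp_zero, mul_one, mul_one]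
    exact D.Zc_le_fixC T.S.s_z (zp_mem (mem_zpowers _) _)
  have sel : ∀ k i j : ZMod 3, T.S.s * T.B.el k i j * T.S.s⁻¹ = T.B.el k i (-j) := fun k i j => by
    have := T.B.swap.t_el T.sa k j i
    rwa [Basis.el_swap, Basis.el_swap] at this
  -- fix the exponents
  obtain ⟨τ1, hτz, hτ1, hτ2⟩ : ∃ τ1, Commute τ1 D.z ∧ τ1 * T.B.a1 * τ1⁻¹ = T.B.el k 0 1 ∧
      τ1 * T.B.a2 * τ1⁻¹ = T.B.a1 := by
    have et1 : (T.S.t * sw) * T.B.a1 * (T.S.t * sw)⁻¹ = T.B.el k 0 j := by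
      rw [show T.S.t * sw * T.B.a1 * (T.S.t * sw)⁻¹ = T.S.t * (sw * T.B.a1 * sw⁻¹) * T.S.t⁻¹ by group, e1,
        T.B.t_el T.ta, neg_zero]
    have et2 : (T.S.t * sw) * T.B.a2 * (T.S.t * sw)⁻¹ = T.B.a1 := by
      rw [show T.S.t * sw * T.B.a2 * (T.S.t * sw)⁻¹ = T.S.t * (sw * T.B.a2 * sw⁻¹) * T.S.t⁻¹ by group, hsw2,
        ← conj_inv, T.ta, inv_inv]
    rcases (show ∀ j : ZMod 3, j ≠ 0 → j = 1 ∨ -j = 1 by decide) j hj with e | e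
    · exact ⟨_, T.S.t_z.mul_left hswz, e ▸ et1, et2⟩
    · refine ⟨T.S.s * (T.S.t * sw), T.S.s_z.mul_left (T.S.t_z.mul_left hswz), ?_, ?_⟩
      · rw [show T.S.s * (T.S.t * sw) * T.B.a1 * (T.S.s * (T.S.t * sw))⁻¹ =
          T.S.s * (T.S.t * sw * T.B.a1 * (T.S.t * sw)⁻¹) * T.S.s⁻¹ by group, et1, sel, e]
      · rw [show T.S.s * (T.S.t * sw) * T.B.a2 * (T.S.s * (T.S.t * sw))⁻¹ =
          T.S.s * (T.S.t * sw * T.B.a2 * (T.S.t * sw)⁻¹) * T.S.s⁻¹ by group, et2,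
          (D.mem_fixC.1 T.B.ha1).2.symm.eq, mul_inv_cancel_right]
  set q := zp T.B.b1 (-k) with hq
  have hqa1 : q * T.B.a1 * q⁻¹ = zp D.z (-k) * T.B.a1 := by
    rw [Data.conj_eq, hq, D.form_zp_left T.B.hb1.1 T.B.ha1.1 T.B.h1 D.z_cube]
  have hqa2 : Commute q T.B.a2 := zp_comm (T.S.comm12 T.B.hb1 T.B.ha2) _
  have hqz : Commute q D.z := D.comm_z _ (zp_mem T.B.hb1.1 _)
  set τ2 := q * τ1
  have h2z : Commute τ2 D.z := hqz.mul_left hτz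
  have h2a1 : τ2 * T.B.a1 * τ2⁻¹ = zp D.z k * T.B.a2 := by
    rw [show τ2 * T.B.a1 * τ2⁻¹ = q * (τ1 * T.B.a1 * τ1⁻¹) * q⁻¹ by simp only [τ2]; group, hτ1,
      Basis.el, zp_zero, mul_one, zp_one, ((zp_comm hqz.symm k).symm.mul_right hqa2).eq, mul_inv_cancel_right]
  have h2n : Commute τ2 (nn T) := mul_inv_eq_iff_eq_mul.1 (by
    rw [show τ2 * nn T * τ2⁻¹ = (τ2 * T.B.a1 * τ2⁻¹) * (q * (τ1 * T.B.a2 * τ1⁻¹) * q⁻¹) by
        simp only [τ2, nn]; group, h2a1, hτ2, hqa1,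
      show zp D.z k * T.B.a2 * (zp D.z (-k) * T.B.a1) = zp D.z k * (T.B.a2 * zp D.z (-k)) * T.B.a1 by group,
      ((zp_comm (D.comm_z _ T.B.ha2.1).symm (-k))).symm.eq,
      show zp D.z k * (zp D.z (-k) * T.B.a2) * T.B.a1 = zp D.z k * zp D.z (-k) * (T.B.a2 * T.B.a1) by group,
      ← zp_add D.z_cube, add_neg_cancel, zp_zero, one_mul]
    exact T.B.comm_a.symm.eq)
  have h2flip : ∀ q ∈ T.S.Q1, τ2 * q * τ2⁻¹ ∈ T.S.Q2 := (HN_or_flip T.B h2z).resolve_left fun h => by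
    refine a1_conj_not_both T.B h2z (T.S.conj_Q1 h T.B.ha1) ?_
    rw [h2a1]
    exact T.S.Q2.mul_mem (D.Zc_le_fixC T.S.t_z (zp_mem (mem_zpowers _) _)) T.B.ha2
  have hsq : τ2 * τ2 ∈ T.S.HN := T.S.mem_HN_of (h2z.mul_left h2z) T.B.ha1 T.B.a1_not_Zc (by
    rw [show τ2 * τ2 * T.B.a1 * (τ2 * τ2)⁻¹ = τ2 * (τ2 * T.B.a1 * τ2⁻¹) * τ2⁻¹ by group]
    exact other_half h2z h2flip _ (h2flip _ T.B.ha1))
  obtain ⟨m, hm⟩ := T.B.Stab_pgroup ⟨_, stab_of_HN T.B (h2n.mul_left h2n) hsq⟩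
  have hm' : (τ2 * τ2) ^ 3 ^ m = 1 := congrArg Subtype.val hm
  refine ⟨τ2 ^ 3 ^ m, ?_, h2z.pow_left _, h2n.pow_left _, fun w hw => ?_⟩
  · rw [← (Commute.refl τ2).mul_pow, hm']
  obtain ⟨l, hl⟩ := (Odd.pow (by decide : Odd 3) : Odd (3 ^ m))
  rw [hl, pow_succ', pow_mul, pow_two,
    show τ2 * (τ2 * τ2) ^ l * w * (τ2 * (τ2 * τ2) ^ l)⁻¹ = τ2 * ((τ2 * τ2) ^ l * w * ((τ2 * τ2) ^ l)⁻¹) * τ2⁻¹ by group]
  exact h2flip _ (T.S.conj_Q1 (T.S.HN.pow_mem hsq l) hw)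

end Cfsg.Lib.U6ThreeSmall
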